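import Mathlib
import Cfsg.Agent.GT.Carter
import Cfsg.Agent.GT.Frattini

/-! Nilpotent supplements to a normal subgroup that has a self-normalizing nilpotent complement. -/

set_option autoImplicit false

namespace Cfsg.Agent.NF4

open Subgroup Cfsg.Agent.GT
open scoped Pointwise

universe u

variable {G : Type u} [Group G] [Finite G]

/-- a nilpotent supplement -/
def Sp (K D : Subgroup G) : Prop := Group.IsNilpotent D ∧ K ⊔ D = ⊤

/-- a self-normalizing nilpotent complement -/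
def Gd (K D : Subgroup G) : Prop := IsCarterSubgroup D ∧ K ⊓ D = ⊥ ∧ K ⊔ D = ⊤

variable {K A D : Subgroup G} [K.Normal]

omit [Finite G] in
theorem Sp.conj (h : Sp K D) (g : G) : Sp K (MulAut.conj g • D) :=
  have := h.1
  ⟨isNilpotent_map D _, by
    rw [← Normal.conj_smul_eq_self g K, ← smul_sup, h.2, Normal.conj_smul_eq_self]⟩

omit [Finite G] [K.Normal] in
theorem Gd.sp (h : Gd K D) : Sp K D := ⟨h.1.1, h.2.2⟩

omit [Finite G] in
theorem Gd.conj (h : Gd K D) (g : G) : Gd K (MulAut.conj g • D) :=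
  ⟨h.1.conj_smul g, by rw [← Normal.conj_smul_eq_self g K, ← Subgroup.smul_inf, h.2.1, smul_bot],
    (h.sp.conj g).2⟩

omit [Finite G] in
theorem Sp.surj (h : Sp K D) : D.map (QuotientGroup.mk' K) = ⊤ := by
  rw [← Carter.map_mk'_sup_left, h.2, map_top_of_surjective _ (QuotientGroup.mk'_surjective K)]

omit [Finite G] in
theorem Sp.nil (h : Sp K D) : Group.IsNilpotent (G ⧸ K) := by
  have := h.1
  have h1 := isNilpotent_map D (QuotientGroup.mk' K)
  rw [h.surj] at h1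
  exact Group.nilpotent_of_mulEquiv topEquiv

omit [Finite G] [K.Normal] in
theorem Sp.map (h : Sp K D) (V : Subgroup G) [V.Normal] :
    Sp (K.map (QuotientGroup.mk' V)) (D.map (QuotientGroup.mk' V)) :=
  have := h.1
  ⟨isNilpotent_map D _, by
    rw [← Subgroup.map_sup, h.2, map_top_of_surjective _ (QuotientGroup.mk'_surjective V)]⟩

omit [Finite G] in
theorem Sp.sub (h : Sp K D) {N : Subgroup G} (l : D ≤ N) : Sp (K.subgroupOf N) (D.subgroupOf N) :=
  have := h.1
  ⟨isNilpotent_subgroupOf D N, eq_top_iff.2 fun x _ => by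
    obtain ⟨k, hk, d, hd, e⟩ := HT.mem_sup_of_normal.1 (h.2 ▸ mem_top (x : G))
    have h1 : k ∈ N := by simpa [← e] using mul_mem x.2 (inv_mem (l hd))
    exact HT.mem_sup_of_normal.2 ⟨⟨k, h1⟩, hk, ⟨d, l hd⟩, hd, Subtype.ext e⟩⟩

omit [Finite G] in
theorem Gd.sub (h : Gd K D) {N : Subgroup G} (l : D ≤ N) : Gd (K.subgroupOf N) (D.subgroupOf N) :=
  ⟨h.1.subgroupOf l, eq_bot_iff.2 fun x hx => Subtype.ext (mem_bot.1 (h.2.1 ▸ (hx : (x : G) ∈ K ⊓ D))),
    (h.sp.sub l).2⟩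

theorem Gd.map (h : Gd K A) (V : Subgroup G) [V.Normal] [Group.IsSolvable V] (l : V ≤ K ∨ V ≤ A) :
    Gd (K.map (QuotientGroup.mk' V)) (A.map (QuotientGroup.mk' V)) := by
  have := h.1.1
  refine ⟨Carter.map_of_conj h.1 fun _ D hD => ?_, eq_bot_iff.2 ?_, (h.sp.map V).2⟩
  · have : Group.IsSolvable ↥(V ⊔ A) := sup_comm A V ▸ isSolvable_sup A V
    exact hD.exists_conj_eq (h.1.subgroupOf le_sup_right)
  · rintro _ ⟨⟨k, hk, rfl⟩, a, ha, e⟩
    have h1 : a⁻¹ * k ∈ V := QuotientGroup.eq.1 e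
    rcases l with l | l
    · have h2 : a ∈ K ⊓ A := ⟨by simpa using mul_mem hk (inv_mem (l h1)), ha⟩
      rw [← e, mem_bot.1 (h.2.1.le h2)]; exact one_mem _
    · have h2 : k ∈ K ⊓ A := ⟨hk, by simpa using mul_mem ha (l h1)⟩
      rw [mem_bot.1 (h.2.1.le h2)]; exact one_mem _

omit [Finite G] in
theorem Gd.eq_of_le (h : Gd K A) (hD : Sp K D) (l : D ≤ A) : D = A :=
  le_antisymm l fun x hx => by
    obtain ⟨k, hk, d, hd, rfl⟩ := HT.mem_sup_of_normal.1 (hD.2 ▸ mem_top x)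
    have h2 : k ∈ K ⊓ A := ⟨hk, by simpa using mul_mem hx (inv_mem (l hd))⟩
    rwa [mem_bot.1 (h.2.1.le h2), one_mul]

omit [Group G] [Finite G] [K.Normal] in
theorem conj_aux (n : ℕ) : ∀ (G : Type u) [Group G] [Finite G] [Group.IsSolvable G] (K A D : Subgroup G)
    [K.Normal], Nat.card G = n → Gd K A → Sp K D → ∃ g : G, MulAut.conj g • D = A := by
  induction n using Nat.strong_induction_on with | _ n ih => ?_
  intro G _ _ _ K A D _ hn hA hD
  by_cases h0 : K = ⊥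
  · subst h0
    exact ⟨1, by rw [HT.conj_one_smul, ← bot_sup_eq D, hD.2, ← bot_sup_eq A, hA.2.2]⟩
  obtain ⟨p, hp, V, l, _, v0, -, vp⟩ := HT.exists_normal_comm_pGroup_le K inferInstance h0
  have : (K.map (QuotientGroup.mk' V)).Normal := Normal.map inferInstance _ (QuotientGroup.mk'_surjective V)
  obtain ⟨y, hy⟩ := ih _ (hn ▸ HT.card_quotient_lt V v0) _ _ _ _ rfl (hA.map V (Or.inl l)) (hD.map V)
  obtain ⟨x, rfl⟩ := QuotientGroup.mk'_surjective V y
  have h1 := HT.conj_smul_sup_eq_of_map _ hy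
  rw [QuotientGroup.ker_mk'] at h1
  have hD' := hD.conj x
  obtain ⟨Q, hQ⟩ := exists_isPiHallOf {p}ᶜ (M := MulAut.conj x • D) inferInstance
  obtain ⟨R, hR⟩ := exists_isPiHallOf {p}ᶜ (M := A) inferInstance
  obtain ⟨g, hg, hgQ⟩ := (h1 ▸ hQ.sup_of_isPGroup hp vp).exists_conj_eq inferInstance (hR.sup_of_isPGroup hp vp)
  refine ⟨g * x, hA.eq_of_le (hD.conj _) ?_⟩
  rw [← HT.conj_smul_conj_smul, hA.1.eq_inf_normalizer hp vp hR, ← hgQ, HT.normalizer_conj_smul]
  exact le_inf (HT.conj_smul_le_of_mem (h1 ▸ le_sup_right) hg)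
    (HT.conj_smul_mono g (hQ.le_normalizer_of_isNilpotent hD'.1))

theorem Gd.of_le (h : Gd K A) (hD : Sp K D) {N : Subgroup G} [Group.IsSolvable N] (l : A ≤ N) (l' : D ≤ N) :
    Gd K D := by
  obtain ⟨g, hg⟩ := conj_aux _ N _ _ _ rfl (h.sub l) (hD.sub l')
  have h1 := h.conj (g : G)⁻¹
  rwa [← HT.conj_smul_eq_of_subgroupOf l' l hg, HT.conj_inv_smul_conj_smul] at h1

omit [Finite G] in
theorem nil_sub [Group.IsNilpotent (G ⧸ K)] (N : Subgroup G) : Group.IsNilpotent (N ⧸ K.subgroupOf N) :=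
  Group.nilpotent_of_mulEquiv ((QuotientGroup.quotientMulEquivOfEq (by ext; simp [mem_subgroupOf])).trans
    (QuotientGroup.quotientKerEquivRange ((QuotientGroup.mk' K).comp N.subtype))).symm

theorem exists_sp [Group.IsNilpotent (G ⧸ K)] {U : Subgroup G} (h : K ⊔ U = ⊤) : ∃ D ≤ U, Sp K D := by
  obtain ⟨D, l, hD⟩ := exists_minimal_le_of_wellFoundedLT (fun D : Subgroup G => K ⊔ D = ⊤) U h
  refine ⟨D, l, ?_, hD.1⟩
  have := nil_sub (K := K) D
  refine isNilpotent_of_quotient_of_le_frattini (N := K.subgroupOf D) (le_frattini_iff_forall_sup.2 fun H hH => ?_)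
  have h1 := congrArg (map D.subtype) hH
  rw [Subgroup.map_sup, subgroupOf_map_subtype, ← MonoidHom.range_eq_map, range_subtype] at h1
  have h2 := hD.2 (y := H.map D.subtype) (eq_top_iff.2 (hD.1 ▸ sup_le le_sup_left
    (h1.ge.trans (sup_le le_sup_right (inf_le_left.trans le_sup_left))))) (map_subtype_le H)
  exact eq_top_iff.2 fun x _ => (mem_map_iff_mem D.subtype_injective).1 (h2 x.2)

theorem frat [Group.IsNilpotent (G ⧸ K)] {p : ℕ} [Fact p.Prime] (P : Sylow p G) :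
    K ⊔ normalizer (P : Set G) = ⊤ := by
  have hf := QuotientGroup.mk'_surjective K
  have h1 : ((P : Subgroup G).map (QuotientGroup.mk' K)).Normal :=
    isNilpotent_iff_sylow_normal.1 inferInstance p inferInstance (P.mapSurjective hf)
  have := h1.comap (QuotientGroup.mk' K)
  have h2 := P.normalizer_sup_eq_top' (N := ((P : Subgroup G).map (QuotientGroup.mk' K)).comap
    (QuotientGroup.mk' K)) (le_comap_map _ _)
  rw [comap_map_eq, QuotientGroup.ker_mk', ← sup_assoc] at h2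
  rw [sup_comm, ← h2]
  exact congrArg (· ⊔ K) (sup_eq_left.2 le_normalizer).symm

theorem frat' [Group.IsNilpotent (G ⧸ K)] {p : ℕ} [Fact p.Prime] {N : Subgroup G} (h : K ⊔ N = ⊤)
    (P : Sylow p N) : ∃ D ≤ N ⊓ normalizer ((P : Subgroup N).map N.subtype : Set G), Sp K D := by
  have := nil_sub (K := K) N
  have h1 := congrArg (map N.subtype) (frat (K := K.subgroupOf N) P)
  rw [Subgroup.map_sup, subgroupOf_map_subtype, ← MonoidHom.range_eq_map, range_subtype] at h1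
  exact exists_sp (eq_top_iff.2 (h ▸ sup_le le_sup_left (h1.ge.trans (sup_le_sup inf_le_left
    (le_inf (map_subtype_le _) (map_le_normalizer_map le_rfl _))))))

section Climb

variable {p : ℕ} [Fact p.Prime]
  (hs : ∀ R : Subgroup G, R ≠ ⊥ → IsPGroup p R → ∀ A ≤ normalizer (R : Set G), Gd K A →
    Group.IsSolvable (normalizer (R : Set G)))
include hs

omit [Fact p.Prime] in
theorem gd_iff {R D' : Subgroup G} (h0 : R ≠ ⊥) (hR : IsPGroup p R) (hD : Sp K D) (hD' : Sp K D')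
    (l : D ≤ normalizer (R : Set G)) (l' : D' ≤ normalizer (R : Set G)) : Gd K D ↔ Gd K D' :=
  ⟨fun h => have := hs R h0 hR D l h; h.of_le hD' l l', fun h => have := hs R h0 hR D' l' h; h.of_le hD l' l⟩

theorem climb (R : Subgroup G) : R ≠ ⊥ → IsPGroup p R → ∀ D ≤ normalizer (R : Set G), Sp K D →
    ∃ (S : Sylow p G) (D' : Subgroup G), (S : Subgroup G) ≠ ⊥ ∧ D' ≤ normalizer (S : Set G) ∧ Sp K D' ∧
      (Gd K D ↔ Gd K D') := by
  induction R using WellFoundedGT.induction with | _ R ih => ?_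
  intro h0 hR D l hD
  obtain ⟨S, hS⟩ := hR.exists_le_sylow
  rcases hS.eq_or_lt with rfl | hS
  · exact ⟨S, D, h0, l, hD, Iff.rfl⟩
  have := hD.nil
  have h1 : R < normalizer (R : Set G) ⊓ S := by
    have := S.isPGroup'.isNilpotent
    have h2 := Group.normalizerCondition_of_isNilpotent (R.subgroupOf S)
      (lt_top_iff_ne_top.2 fun e => hS.not_ge (subgroupOf_eq_top.1 e))
    obtain ⟨x, h3, h4⟩ := SetLike.exists_of_lt h2
    rw [← subgroupOf_normalizer_eq hS.le] at h3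
    exact lt_of_le_of_ne (le_inf le_normalizer hS.le) fun e => h4 (e.ge (mem_inf.2 ⟨h3, x.2⟩))
  obtain ⟨P, hP⟩ := (S.isPGroup'.comap_subtype (K := normalizer (R : Set G))).exists_le_sylow
  obtain ⟨D', l', hD'⟩ := frat' (eq_top_iff.2 (hD.2 ▸ sup_le_sup_left l K)) P
  have h2 : R < (P : Subgroup _).map (normalizer (R : Set G)).subtype :=
    h1.trans_le fun x hx => ⟨⟨x, hx.1⟩, hP hx.2, rfl⟩
  obtain ⟨S', D'', a, b, c, d⟩ := ih _ h2 (ne_bot_of_gt h2) (P.isPGroup'.map _) D' (l'.trans inf_le_right) hD'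
  exact ⟨S', D'', a, b, c, (gd_iff hs h0 hR hD hD' l (l'.trans inf_le_left)).trans d⟩

omit hs in
theorem Sp.core_ne (hD : Sp K D) (hp : p ∣ K.index) : pCoreOf p D ≠ ⊥ := by
  have := hD.1
  rw [← relIndex_top_right, ← hD.2, relIndex_sup_left] at hp
  obtain ⟨x, hx⟩ := exists_prime_orderOf_dvd_card' (G := D) p (hp.trans (relIndex_dvd_card _ _))
  intro e
  have h1 := le_pCoreOf_of_isNilpotent (p := p) (zpowers_le.2 x.2)
    (IsPGroup.of_card (n := 1) (by rw [Nat.card_zpowers, orderOf_coe, hx, pow_one]))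
  rw [e, le_bot_iff, zpowers_eq_bot, OneMemClass.coe_eq_one] at h1
  rw [h1, orderOf_one] at hx
  exact (Fact.out : p.Prime).one_lt.ne hx

theorem gd_of_sp (hp : p ∣ K.index) (hA : Gd K A) (hD : Sp K D) : Gd K D := by
  obtain ⟨S, A', -, b, c, d⟩ := climb hs _ (hA.sp.core_ne hp) (isPGroup_pCoreOf p A) A
    (le_normalizer_pCoreOf A) hA.sp
  obtain ⟨S', D', a', b', c', d'⟩ := climb hs _ (hD.core_ne hp) (isPGroup_pCoreOf p D) D
    (le_normalizer_pCoreOf D) hD
  obtain ⟨g, rfl⟩ := MulAction.exists_smul_eq G S S'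
  refine d'.2 ((gd_iff hs a' (g • S).isPGroup' (c.conj g) c' ?_ b').1 ((d.1 hA).conj g))
  exact (HT.conj_smul_mono g b).trans (HT.normalizer_conj_smul g (S : Subgroup G)).ge

end Climb

end Cfsg.Agent.NF4
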